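import Groth.Agent.SuppFibDimLib.Alg
import Groth.Agent.GenFibNearLib.AssScheme
import Groth.Agent.DimIneqLib.Fibre
import Groth.Agent.FibDimLib.Semicont
import Groth.Agent.QCohLib.AffineFinite
import Groth.Agent.DepthLib.RegAB
import Groth.Prelude.Def_FlatMod2
import Mathlib

/-! # Supports of flat modules: fibre dimensions are bounded by the generic one -/

set_option autoImplicit false

universe u

open CategoryTheory AlgebraicGeometry TopologicalSpace DevissLib
open scoped TensorProduct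

noncomputable section

namespace SuppFibDimLib

variable {X S : Scheme.{u}} (f : X ⟶ S) [LocallyOfFiniteType f] [IrreducibleSpace ↑S]
  (F : X.Modules) [Coh.IsQCoh F] (hF : CohB1.IsFT F)

set_option maxHeartbeats 1600000 in
include hF in
theorem exists_generic_point (hfl : FlatMod.IsFlatOver f F) {x : X} (hx : x ∈ CohB1.support F) :
    ∃ x₁ : X, x₁ ∈ CohB1.support F ∧ f x₁ = genericPoint ↑S ∧
      DimIneqLib.trH (f.residueFieldMap x).hom ≤ DimIneqLib.trH (f.residueFieldMap x₁).hom := by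
  classical
  obtain ⟨_, ⟨W, hW, rfl⟩, hxW, -⟩ := S.isBasis_affineOpens.exists_subset_of_mem_open (Set.mem_univ (f x)) isOpen_univ
  obtain ⟨_, ⟨V, hV, rfl⟩, hxV, (e : V ≤ f ⁻¹ᵁ W)⟩ :=
    X.isBasis_affineOpens.exists_subset_of_mem_open (show x ∈ f ⁻¹ᵁ W from hxW) (f ⁻¹ᵁ W).isOpen
  let A := Γ(S, W)
  let C := Γ(X, V)
  letI : Algebra A C := (f.appLE W V e).hom.toAlgebra
  let Os := S.presheaf.stalk (f x)
  let O := X.presheaf.stalk x
  let Lx := (St x).obj F
  let k := S.residueField (f x)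
  let κ := X.residueField x
  letI : Algebra Os O := (f.stalkMap x).hom.toAlgebra
  letI : Module Os Lx := Module.compHom Lx (f.stalkMap x).hom
  haveI : IsScalarTower Os O Lx := IsScalarTower.of_algebraMap_smul fun _ _ => rfl
  haveI : Module.Flat Os Lx := hfl x
  letI : Algebra O κ := (X.residue x).hom.toAlgebra
  letI : Algebra Os κ := ((X.residue x).hom.comp (f.stalkMap x).hom).toAlgebra
  haveI : IsScalarTower Os O κ := IsScalarTower.of_algebraMap_eq fun _ => rfl
  letI : Algebra (IsLocalRing.ResidueField Os) κ := (f.residueFieldMap x).hom.toAlgebra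
  haveI : IsScalarTower Os (IsLocalRing.ResidueField Os) κ := IsScalarTower.of_algebraMap_eq fun _ => rfl
  haveI : Module.Finite O Lx := DepthLib.finite_stalk F hF x
  haveI : Nontrivial Lx := not_subsingleton_iff_nontrivial.1 hx
  -- a section with nonzero residue
  obtain ⟨s, hs⟩ : ∃ s : Γ(F, V), (1 : κ) ⊗ₜ[O] gm F x hxV s ≠ (0 : κ ⊗[O] Lx) := by
    by_contra hh
    push Not at hh
    haveI : Subsingleton (κ ⊗[O] Lx) := subsingleton_of_forall_eq 0 fun z => by
      induction z with
      | zero => rfl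
      | add a b ha hb => rw [ha, hb, add_zero]
      | tmul r a =>
        obtain ⟨v, s, hv, hs⟩ := AssPointLib.exists_smul_eq_gm hV hxV a
        have h1 : algebraMap O κ v • ((1 : κ) ⊗ₜ[O] a) = 0 := by
          rw [algebraMap_smul, ← TensorProduct.tmul_smul, hs, hh s]
        have h2 : (1 : κ) ⊗ₜ[O] a = 0 := (hv.map (algebraMap O κ)).smul_eq_zero.1 h1
        rw [show r ⊗ₜ[O] a = r • ((1 : κ) ⊗ₜ[O] a) by rw [TensorProduct.smul_tmul', smul_eq_mul, mul_one], h2, smul_zero]
    exact not_subsingleton Lx ((IsLocalRing.subsingleton_tensorProduct (R := O)).1 ‹_›)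
  -- a transcendence basis of the residue field from sections
  let evx : C →+* κ := (X.evaluation V x hxV).hom
  obtain ⟨T, hTsub, hT⟩ : ∃ T : Set κ, T ⊆ Set.range evx ∧
      IsTranscendenceBasis (IsLocalRing.ResidueField Os) ((↑) : T → κ) := by
    haveI : Algebra.IsAlgebraic (Algebra.adjoin (IsLocalRing.ResidueField Os) (Set.range evx)) κ := by
      refine ⟨fun z => ?_⟩
      obtain ⟨a, b, hb, he⟩ := (DimIneqLib.ker_evaluation hV x hxV).2 z
      let R' := Algebra.adjoin (IsLocalRing.ResidueField Os) (Set.range evx)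
      let a' : R' := ⟨evx a, Algebra.subset_adjoin ⟨a, rfl⟩⟩
      let b' : R' := ⟨evx b, Algebra.subset_adjoin ⟨b, rfl⟩⟩
      refine ⟨Polynomial.C b' * Polynomial.X - Polynomial.C a', fun h0 => hb ?_, ?_⟩
      · have := congrArg (fun p : Polynomial R' => (p.coeff 1 : κ)) h0
        simp only [Polynomial.coeff_sub, Polynomial.coeff_C_mul, Polynomial.coeff_X_one, mul_one, Polynomial.coeff_C,
          one_ne_zero, if_false, sub_zero, Polynomial.coeff_zero, ZeroMemClass.coe_zero] at this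
        exact this
      · rw [map_sub, map_mul, Polynomial.aeval_C, Polynomial.aeval_X, Polynomial.aeval_C]
        show evx b * z - evx a = 0
        rw [mul_comm]; exact sub_eq_zero.2 he
    exact exists_isTranscendenceBasis_subset (Set.range evx)
  choose c hc using fun t : T => hTsub t.2
  -- the ideal to avoid
  let p : Ideal A := (hW.primeIdealOf ⟨f x, hxW⟩).asIdeal
  have hηW : genericPoint ↑S ∈ W := ((genericPoint_spec ↑S).specializes trivial : genericPoint ↑S ⤳ f x).mem_open W.2 hxW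
  let p₀ : Ideal A := (hW.primeIdealOf ⟨genericPoint ↑S, hηW⟩).asIdeal
  have hminp : ∀ q : PrimeSpectrum A, p₀ ≤ q.asIdeal := fun q => by
    refine (PrimeSpectrum.le_iff_specializes (hW.primeIdealOf ⟨genericPoint ↑S, hηW⟩) q).2 ?_
    refine hW.fromSpec.isEmbedding.isInducing.specializes_iff.1 ?_
    rw [hW.fromSpec_primeIdealOf]
    exact (genericPoint_spec ↑S).specializes trivial
  letI : Module C Lx := GenFibNearLib.stalkMod F hxV
  let J : Ideal C := LinearMap.ker (LinearMap.toSpanSingleton C Lx (gm F x hxV s))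
  have hJ : ∀ a : C, a ∈ J ↔ X.presheaf.germ V x hxV a • gm F x hxV s = 0 := fun a => Iff.rfl
  obtain ⟨P, hP, hJP, hPA, hPc⟩ := exists_prime (A := A) c p₀ J (fun g hg d => by
    let gx : A →+* Os := (S.presheaf.germ W (f x) hxW).hom
    let φ : A →+* O := (X.presheaf.germ V x hxV).hom.comp (algebraMap A C)
    have hφ : φ = (algebraMap Os O).comp gx := by
      ext a
      show X.presheaf.germ V x hxV ((f.appLE W V e).hom a) = (f.stalkMap x).hom (S.presheaf.germ W (f x) hxW a)
      exact ((Scheme.Hom.germ_stalkMap_apply f W x (e hxV) a).trans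
        (TopCat.Presheaf.germ_res_apply X.presheaf (homOfLE e) x hxV _).symm).symm
    let xs : T → O := fun t => X.presheaf.germ V x hxV (c t)
    have h1 : MvPolynomial.aeval xs (g.map gx) = X.presheaf.germ V x hxV (MvPolynomial.aeval c g) := by
      rw [MvPolynomial.aeval_def, MvPolynomial.eval₂_map, ← hφ, MvPolynomial.aeval_def]
      exact (MvPolynomial.eval₂_comp_left (X.presheaf.germ V x hxV).hom (algebraMap A C) c g).symm
    have h0 : g.map gx = 0 := by
      refine coeff_eq_zero_of_smul_eq_zero (κ := κ) (W := κ ⊗[O] Lx)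
        ((TensorProduct.mk O κ Lx) 1) xs (gm F x hxV s) hs ?_ _ (by rw [h1]; exact (hJ _).1 hg)
      have hxs : (fun t => algebraMap O κ (xs t)) = ((↑) : T → κ) := funext fun t => by
        show X.residue x (X.presheaf.germ V x hxV (c t)) = t
        exact (congrArg (fun φ => φ.hom (c t)) (Scheme.germ_residue X (U := V) (x := x) (hx := hxV))).trans (hc t)
      rw [hxs]
      exact hT.1
    have h2 : gx (g.coeff d) = 0 := by
      have := congrArg (MvPolynomial.coeff d) h0
      rwa [MvPolynomial.coeff_map, MvPolynomial.coeff_zero] at this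
    letI := S.presheaf.algebra_section_stalk (⟨f x, hxW⟩ : W)
    haveI : IsLocalization.AtPrime (S.presheaf.stalk (f x)) p := hW.isLocalization_stalk ⟨f x, hxW⟩
    obtain ⟨⟨t, ht⟩, htg⟩ := (IsLocalization.map_eq_zero_iff p.primeCompl Os (g.coeff d)).1 h2
    refine ((inferInstance : p₀.IsPrime).mem_or_mem (by rw [show t * g.coeff d = 0 from htg]; exact zero_mem _)).resolve_left
      fun h => ht (hminp (hW.primeIdealOf ⟨f x, hxW⟩) h))
  haveI := hP
  let Ps : PrimeSpectrum C := ⟨P, hP⟩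
  let x₁ : X := hV.fromSpec Ps
  have hx₁V : x₁ ∈ V := by
    have : hV.fromSpec Ps ∈ Set.range hV.fromSpec := ⟨Ps, rfl⟩
    rwa [hV.range_fromSpec] at this
  have hprime : hV.primeIdealOf ⟨x₁, hx₁V⟩ = Ps :=
    hV.fromSpec.isEmbedding.injective (hV.fromSpec_primeIdealOf _)
  have hPA' : P.comap (algebraMap A C) = p₀ := le_antisymm hPA (hminp ⟨_, Ideal.IsPrime.comap _⟩)
  have hfx₁ : f x₁ = genericPoint ↑S := by
    have h := GenFibNearLib.comap_primeIdealOf' f hW hV e hx₁V
    rw [hprime] at h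
    have h' : hW.primeIdealOf ⟨f x₁, e hx₁V⟩ = hW.primeIdealOf ⟨genericPoint ↑S, hηW⟩ :=
      PrimeSpectrum.ext (h.symm.trans hPA')
    have := congrArg hW.fromSpec h'
    rwa [hW.fromSpec_primeIdealOf, hW.fromSpec_primeIdealOf] at this
  refine ⟨x₁, ?_, hfx₁, ?_⟩
  · intro hsub
    haveI : Subsingleton ((St x₁).obj F) := hsub
    obtain ⟨t, ht, hts⟩ := (gm_eq_zero_iff hV x₁ hx₁V s).1 (Subsingleton.elim _ _)
    rw [hprime] at ht
    refine ht (hJP ((hJ t).2 ?_))
    rw [← gm_smul, hts, gm_zero]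
  · -- transcendence degrees
    haveI : P.LiesOver p₀ := ⟨hPA'.symm⟩
    have hk1 := DimIneqLib.ker_evaluation hV x₁ hx₁V
    have hk2 := DimIneqLib.ker_evaluation hW (f x₁) (e hx₁V)
    have htr : DimIneqLib.trH (f.residueFieldMap x₁).hom = DimIneqLib.tr (A ⧸ p₀) (C ⧸ P) := by
      refine DimIneqLib.trH_eq P p₀ (S.evaluation W (f x₁) (e hx₁V)).hom (X.evaluation V x₁ hx₁V).hom ?_ ?_
        hk2.2 hk1.2 _ (DimIneqLib.evaluation_appLE f e x₁ hx₁V)
      · rw [hk2.1, ← GenFibNearLib.comap_primeIdealOf' f hW hV e hx₁V, hprime]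
        exact hPA'
      · rw [hk1.1, hprime]
    rw [htr]
    have hcard : DimIneqLib.trH (f.residueFieldMap x).hom = Cardinal.toENat (Cardinal.mk T) := by
      show Cardinal.toENat (Algebra.trdeg (IsLocalRing.ResidueField Os) κ) = _
      rw [← hT.cardinalMk_eq_trdeg]
    rw [hcard]
    refine OrderHomClass.mono Cardinal.toENat ?_
    have hind : AlgebraicIndependent (A ⧸ p₀) fun t : T => Ideal.Quotient.mk P (c t) := by
      rw [algebraicIndependent_iff]
      intro g hg
      obtain ⟨g, rfl⟩ := MvPolynomial.map_surjective (Ideal.Quotient.mk p₀) Ideal.Quotient.mk_surjective g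
      have h1 : MvPolynomial.aeval c g ∈ P := by
        rw [← Ideal.Quotient.eq_zero_iff_mem, ← hg, MvPolynomial.aeval_def, MvPolynomial.aeval_def, MvPolynomial.eval₂_map]
        exact MvPolynomial.eval₂_comp_left (Ideal.Quotient.mk P) _ c g
      ext d
      rw [MvPolynomial.coeff_map, MvPolynomial.coeff_zero, Ideal.Quotient.eq_zero_iff_mem]
      exact hPc g h1 d
    exact hind.cardinalMk_le_trdeg

include hF in
theorem dim_le (hfl : FlatMod.IsFlatOver f F) (r : WithBot ℕ∞)
    (h : topologicalKrullDim ↑(f ⁻¹' {genericPoint ↑S} ∩ CohB1.support F) ≤ r) (s : S) :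
    topologicalKrullDim ↑(f ⁻¹' {s} ∩ CohB1.support F) ≤ r := by
  have hcl : IsClosed (CohB1.support F) := QCohLib.isClosed_support F hF
  haveI : QuasiSober ↥(f ⁻¹' {s}) := (f.fiberHomeo s).symm.isClosedEmbedding.quasiSober
  haveI : QuasiSober ↥(f ⁻¹' {s} ∩ CohB1.support F) := by
    have hc : Topology.IsClosedEmbedding (Set.inclusion (Set.inter_subset_left : f ⁻¹' {s} ∩ CohB1.support F ⊆ _)) := by
      refine ⟨Topology.IsEmbedding.inclusion _, ?_⟩
      rw [Set.range_inclusion]
      have : {z : ↥(f ⁻¹' {s}) | (z : X) ∈ f ⁻¹' {s} ∩ CohB1.support F} = Subtype.val ⁻¹' CohB1.support F := by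
        ext z; exact ⟨fun h => h.2, fun h => ⟨z.2, h⟩⟩
      rw [this]
      exact hcl.preimage continuous_subtype_val
    exact hc.quasiSober
  refine FibDimLib.topologicalKrullDim_le_of_generic fun z _ => ?_
  obtain ⟨z, hzs, hzF⟩ := z
  obtain ⟨x₁, hx₁F, hfx₁, hle⟩ := exists_generic_point f F hF hfl hzF
  have hsub : closure ({x₁} : Set X) ∩ f ⁻¹' {f x₁} ⊆ f ⁻¹' {genericPoint ↑S} ∩ CohB1.support F := by
    rintro w ⟨hw, hwf⟩
    exact ⟨hfx₁ ▸ hwf, hcl.closure_subset_iff.2 (Set.singleton_subset_iff.2 hx₁F) hw⟩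
  have hzsub : ∀ w : ↥(closure ({⟨z, hzs, hzF⟩} : Set ↥(f ⁻¹' {s} ∩ CohB1.support F))),
      (w.1 : X) ∈ closure ({z} : Set X) ∩ f ⁻¹' {f z} := by
    rintro ⟨⟨w, hws, hwF⟩, hw⟩
    refine ⟨?_, hws.trans hzs.symm⟩
    have h1 := Topology.IsInducing.subtypeVal.closure_eq_preimage_closure_image ({⟨z, hzs, hzF⟩} : Set ↥(f ⁻¹' {s} ∩ CohB1.support F))
    rw [Set.image_singleton] at h1
    exact (h1 ▸ hw : _)
  have hemb : Topology.IsEmbedding (fun w : ↥(closure ({⟨z, hzs, hzF⟩} : Set ↥(f ⁻¹' {s} ∩ CohB1.support F))) =>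
      (⟨w.1.1, hzsub w⟩ : ↥(closure ({z} : Set X) ∩ f ⁻¹' {f z}))) :=
    (Topology.IsEmbedding.subtypeVal.comp Topology.IsEmbedding.subtypeVal).codRestrict _ hzsub
  refine le_trans hemb.isInducing.topologicalKrullDim_le ?_
  rw [← UOpenLib.fibreClosureDim_eq_inter, DimIneqLib.fibreClosureDim_eq_trH]
  refine le_trans (WithBot.coe_le_coe.2 hle) ?_
  rw [← DimIneqLib.fibreClosureDim_eq_trH, UOpenLib.fibreClosureDim_eq_inter]
  exact le_trans (Topology.IsEmbedding.inclusion hsub).isInducing.topologicalKrullDim_le h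

end SuppFibDimLib
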