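import Mathlib

/-! # Polynomial families acting on flat modules -/

set_option autoImplicit false

universe u

open IsLocalRing
open scoped TensorProduct

namespace SuppFibDimLib

/-- If the residues `ȳ` are algebraically independent over the residue field and `v` has nonzero image in
a vector space over `κ`, then no nonzero polynomial in the lifts kills `v`, in a flat module. -/
theorem coeff_eq_zero_of_smul_eq_zero {A O L κ W : Type u} [CommRing A] [IsLocalRing A] [CommRing O] [Algebra A O]
    [AddCommGroup L] [Module O L] [Module A L] [IsScalarTower A O L] [Module.Flat A L]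
    [Field κ] [Algebra O κ] [Algebra A κ] [IsScalarTower A O κ]
    [Algebra (ResidueField A) κ] [IsScalarTower A (ResidueField A) κ]
    [AddCommGroup W] [Module κ W] [Module O W] [IsScalarTower O κ W]
    (ψ : L →ₗ[O] W) {ι : Type u} (x : ι → O) (v : L) (hv : ψ v ≠ 0)
    (hind : AlgebraicIndependent (ResidueField A) fun i => algebraMap O κ (x i))
    (f : MvPolynomial ι A) (hf : MvPolynomial.aeval x f • v = 0) : f = 0 := by
  classical
  let k := ResidueField A
  letI : Module A W := Module.compHom W (algebraMap A O)
  haveI : IsScalarTower A O W := IsScalarTower.of_algebraMap_smul fun _ _ => rfl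
  letI : Module k W := Module.compHom W (algebraMap k κ)
  haveI : IsScalarTower k κ W := IsScalarTower.of_algebraMap_smul fun _ _ => rfl
  haveI : IsScalarTower A k W := IsScalarTower.of_algebraMap_smul fun a w => by
    show algebraMap k κ (algebraMap A k a) • w = algebraMap A O a • w
    rw [← IsScalarTower.algebraMap_apply, IsScalarTower.algebraMap_apply A O κ, algebraMap_smul]
  let m : (ι →₀ ℕ) → O := fun d => d.prod fun i n => x i ^ n
  let u : (ι →₀ ℕ) → L := fun d => m d • v
  have hmono : LinearIndependent k (fun d : ι →₀ ℕ => algebraMap O κ (m d)) := by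
    rw [linearIndependent_iff]
    intro l hl
    let g : MvPolynomial ι k := ∑ d ∈ l.support, MvPolynomial.monomial d (l d)
    have hcoeff : ∀ d, MvPolynomial.coeff d g = l d := fun d => by
      simp only [g, MvPolynomial.coeff_sum, MvPolynomial.coeff_monomial, Finset.sum_ite_eq', Finsupp.mem_support_iff]
      split_ifs with h0
      · rfl
      · exact (not_not.1 h0).symm
    have hg : g = 0 := by
      refine hind.eq_zero_of_aeval_eq_zero g ?_
      simp only [g, map_sum, MvPolynomial.aeval_monomial]
      rw [← hl, Finsupp.linearCombination_apply, Finsupp.sum]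
      refine Finset.sum_congr rfl fun d _ => ?_
      rw [Algebra.smul_def]
      congr 1
      simp [m, Finsupp.prod, map_prod, map_pow]
    ext d
    rw [← hcoeff, hg, MvPolynomial.coeff_zero, Finsupp.zero_apply]
  have hu : LinearIndependent A u := by
    refine Module.IsLocalRing.linearIndependent_of_flat u ?_
    refine LinearIndependent.of_comp ((ψ.restrictScalars A).liftBaseChange k) ?_
    have h1 : LinearIndependent k fun d : ι →₀ ℕ => algebraMap O κ (m d) • ψ v := by
      let g : κ →ₗ[k] W := (LinearMap.toSpanSingleton κ W (ψ v)).restrictScalars k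
      exact hmono.map' g (LinearMap.ker_eq_bot.2 (smul_left_injective κ hv))
    convert h1 using 1
    funext d
    simp [u, algebraMap_smul]
  ext d
  rw [MvPolynomial.coeff_zero]
  have hl : Finsupp.linearCombination A u (Finsupp.onFinset f.support (fun d => MvPolynomial.coeff d f)
      fun d hd => MvPolynomial.mem_support_iff.2 hd) = 0 := by
    rw [f.as_sum, map_sum, Finset.sum_smul] at hf
    rw [Finsupp.linearCombination_onFinset, ← hf]
    refine Finset.sum_congr rfl fun d _ => ?_
    rw [MvPolynomial.aeval_monomial, mul_smul, algebraMap_smul]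
  have h3 := DFunLike.congr_fun (linearIndependent_iff.1 hu _ hl) d
  simpa using h3

/-- A prime containing the annihilator and meeting the base in `p₀`, with independent residues. -/
theorem exists_prime {A C : Type u} [CommRing A] [CommRing C] [Algebra A C] {ι : Type u} (c : ι → C) (p₀ : Ideal A)
    [p₀.IsPrime] (J : Ideal C) (h : ∀ f : MvPolynomial ι A, MvPolynomial.aeval c f ∈ J → ∀ d, f.coeff d ∈ p₀) :
    ∃ P : Ideal C, P.IsPrime ∧ J ≤ P ∧ P.comap (algebraMap A C) ≤ p₀ ∧
      ∀ f : MvPolynomial ι A, MvPolynomial.aeval c f ∈ P → ∀ d, f.coeff d ∈ p₀ := by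
  let p0X : Ideal (MvPolynomial ι A) := p₀.map MvPolynomial.C
  haveI : p0X.IsPrime := by
    have h := RingHom.ker_isPrime (MvPolynomial.map (σ := ι) (Ideal.Quotient.mk p₀))
    rwa [MvPolynomial.ker_map, Ideal.mk_ker] at h
  let M : Submonoid C := p0X.primeCompl.map (MvPolynomial.aeval (R := A) c).toRingHom.toMonoidHom
  obtain ⟨P, hP, hJP, hdis⟩ := Ideal.exists_le_prime_disjoint J M (by
    refine Set.disjoint_left.2 fun a ha ha' => ?_
    obtain ⟨f, hf, rfl⟩ := ha'
    exact hf (MvPolynomial.mem_map_C_iff.2 (h f ha)))
  have key : ∀ f : MvPolynomial ι A, MvPolynomial.aeval c f ∈ P → ∀ d, f.coeff d ∈ p₀ := fun f hf => by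
    by_contra hno
    exact Set.disjoint_left.1 hdis hf ⟨f, fun hm => hno (MvPolynomial.mem_map_C_iff.1 hm), rfl⟩
  refine ⟨P, hP, hJP, fun a ha => ?_, key⟩
  have := key (MvPolynomial.C a) (by rwa [MvPolynomial.aeval_C]) 0
  simpa using this

end SuppFibDimLib
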